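import Groth.Agent.Sga4h.H924.AffCase
import Groth.Agent.Sga4h.H926.SpRed

/-!
# Relative semi-purity (conditional on smooth base change and semi-purity over fields)
-/

set_option autoImplicit false
universe u
open CategoryTheory CategoryTheory.Limits AlgebraicGeometry Opposite

namespace Groth.Agent.Sga4h.H924.Final

theorem isZero_locCoh (hS : MainInd.SBC.{u}) (hF : MainInd.FieldPure.{u}) {S X Y U : Scheme.{u}} (n : ℕ)
    (hn : IsUnit (n : Γ(S, ⊤))) (N d : ℕ) (g : X ⟶ S) [SmoothOfRelativeDimension N g]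
    (i : Y ⟶ X) [IsClosedImmersion i]
    (hfib : ∀ s : S, topologicalKrullDim ↥(pullback (i ≫ g) (S.fromSpecResidueField s)) ≤ d)
    (j : U ⟶ X) [IsOpenImmersion j] (hU : Set.range j = (Set.range i)ᶜ) (p : ℕ) (hp : p < 2 * (N - d)) :
    IsZero ((EtDual.locCoh j p).obj (EtCoh.const X (ZMod n))) :=
  Groth.Agent.Sga4h.H926.SpRed.of_affine n N d
    (fun hn g _ i _ _ hfib j _ _ hU p hp => AffCase.isZero_locCoh_affine hS hF n N d hn g i hfib j hU p hp)
    hn g i hfib j hU p hp

end Groth.Agent.Sga4h.H924.Final
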