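import Groth.Agent.Sga4h.H924.MainInd
import Groth.Agent.Sga4B.Pure
import Groth.Agent.Etrest.ConstBasic

/-!
# Relative semi-purity for the constant sheaf over an affine base

In the form of S4257, with a quasi-compact open (conditional on smooth base change and semi-purity over fields).
-/

set_option autoImplicit false
universe u
open CategoryTheory CategoryTheory.Limits AlgebraicGeometry Opposite

namespace Groth.Agent.Sga4h.H924.AffCase

open Groth.Agent.EtpbcA Groth.Agent.Sga4h.H924.Codim Groth.Agent.Sga4h.H924.MainInd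

/-- The fibre of a closed subset, as a scheme or as a subset. -/
theorem topologicalKrullDim_fibre {S X Y : Scheme.{u}} (g : X ⟶ S) (i : Y ⟶ X) [IsClosedImmersion i]
    (s : S) (T : Set X) (hT : ∀ x, x ∈ T ↔ g x = s ∧ x ∈ Set.range i) :
    topologicalKrullDim ↥T = topologicalKrullDim ↥(pullback (i ≫ g) (S.fromSpecResidueField s)) := by
  have h1 : Topology.IsEmbedding (pullback.fst (i ≫ g) (S.fromSpecResidueField s) ≫ i) :=
    (pullback.fst (i ≫ g) (S.fromSpecResidueField s) ≫ i).isEmbedding
  have h2 : Set.range (pullback.fst (i ≫ g) (S.fromSpecResidueField s) ≫ i) = T := by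
    ext x
    rw [hT]
    constructor
    · rintro ⟨y, rfl⟩
      refine ⟨?_, pullback.fst (i ≫ g) (S.fromSpecResidueField s) y, by rw [Scheme.Hom.comp_apply]⟩
      rw [Scheme.Hom.comp_apply, ← Scheme.Hom.comp_apply, ← Scheme.Hom.comp_apply, ← Category.assoc,
        Category.assoc, pullback.condition, Scheme.Hom.comp_apply, Scheme.fromSpecResidueField_apply]
    · rintro ⟨hx, y, rfl⟩
      have : y ∈ Set.range (pullback.fst (i ≫ g) (S.fromSpecResidueField s)) := by
        rw [Scheme.Pullback.range_fst, Scheme.range_fromSpecResidueField]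
        exact (Scheme.Hom.comp_apply i g y).trans hx
      obtain ⟨z, rfl⟩ := this
      exact ⟨z, Scheme.Hom.comp_apply _ _ _⟩
  exact (IsHomeomorph.topologicalKrullDim_eq _
    (h1.toHomeomorph.trans (Homeomorph.setCongr h2)).isHomeomorph).symm

/-- The affine case. -/
theorem isZero_locCoh_affine (hS : SBC.{u}) (hF : FieldPure.{u}) (n N d : ℕ) {S X Y U : Scheme.{u}}
    [IsAffine S] (hn : IsUnit (n : Γ(S, ⊤))) (g : X ⟶ S) [SmoothOfRelativeDimension N g]
    (i : Y ⟶ X) [IsClosedImmersion i]
    (hfib : ∀ s : S, topologicalKrullDim ↥(pullback (i ≫ g) (S.fromSpecResidueField s)) ≤ d)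
    (j : U ⟶ X) [IsOpenImmersion j] [QuasiCompact j] (hU : Set.range j = (Set.range i)ᶜ)
    (p : ℕ) (hp : p < 2 * (N - d)) :
    IsZero ((EtDual.locCoh j p).obj (EtCoh.const X (ZMod n))) := by
  rcases Nat.eq_zero_or_pos n with h0 | h0
  · subst h0
    have h1 : Subsingleton Γ(S, ⊤) := by
      rw [Nat.cast_zero, isUnit_zero_iff] at hn
      exact subsingleton_of_zero_eq_one hn
    have h2 : IsEmpty S := by
      have : IsEmpty (PrimeSpectrum Γ(S, ⊤)) := inferInstance
      exact ⟨fun s => this.false (S.isoSpec.hom s)⟩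
    exact Artin.isZero_of_forall _ fun x => (h2.false (g x)).elim
  · have h1 : CodimGe (N - d) g j := by
      refine codimGe_of_dim N d g j j.isOpenEmbedding.isOpen_range fun s => ?_
      refine le_trans (le_of_eq ?_) (hfib s)
      refine topologicalKrullDim_fibre g i s _ fun x => ?_
      rw [hU]
      simp
    have hsm : Smooth g := SmoothOfRelativeDimension.smooth N g
    have h2 : IsPullback (𝟙 X) (g ≫ S.isoSpec.hom) g S.isoSpec.inv :=
      IsPullback.of_horiz_isIso ⟨by simp⟩
    have h3 : CodimGe (N - d) (g ≫ S.isoSpec.hom) j := h1.of_isPullback h2 fun v hv => hv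
    have h4 := isZero_locCoh_spec hS hF (R := Γ(S, ⊤)) (g ≫ S.isoSpec.hom) j (N - d) h3 n h0 (by
      have := hn.map S.isoSpec.inv.appTop.hom
      rwa [map_natCast] at this) p hp (EtCoh.const _ (ZMod n)) (Etrest.ConstBasic.killedBy_const _ (ZMod n) n (by
        intro x
        rw [nsmul_eq_mul, CharP.cast_eq_zero, zero_mul]))
    exact h4.of_iso ((EtDual.locCoh j p).mapIso (Sga4B.Pure.pullConst (g ≫ S.isoSpec.hom) (ZMod n)).symm)

end Groth.Agent.Sga4h.H924.AffCase
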