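import Mathlib.AlgebraicGeometry.Fiber
import Mathlib.AlgebraicGeometry.Morphisms.Flat
import Mathlib.AlgebraicGeometry.Morphisms.UniversallyOpen
import Mathlib.AlgebraicGeometry.Morphisms.Smooth
import Mathlib.AlgebraicGeometry.Properties
import Mathlib.RingTheory.Flat.Basic
import Groth.Agent.UnramA.SmoothFibreDim
import Groth.Agent.VarietyB.DimSch

/-!
# Opens whose complement has codimension at least `c` in every fibre

`CodimGe c f j`: for every field-valued point of the base, every point of the fibre outside the preimage of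
`j` has stalk of dimension `≥ c`.
-/

set_option autoImplicit false
universe u
open CategoryTheory CategoryTheory.Limits AlgebraicGeometry

namespace Groth.Agent.Sga4h.H924.Codim

/-- Complement of codimension `≥ c` in all fibres over field-valued points. -/
def CodimGe (c : ℕ) {X U S : Scheme.{u}} (f : X ⟶ S) (j : U ⟶ X) : Prop :=
  ∀ (k : Type u) [Field k] (t : Spec (CommRingCat.of k) ⟶ S) (z : ↥(pullback f t)),
    pullback.fst f t z ∉ Set.range j → (c : WithBot ℕ∞) ≤ ringKrullDim ((pullback f t).presheaf.stalk z)

theorem le_ringKrullDim_of_flat {Z' Z : Scheme.{u}} (φ : Z' ⟶ Z) [Flat φ] (z : Z') :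
    ringKrullDim (Z.presheaf.stalk (φ z)) ≤ ringKrullDim (Z'.presheaf.stalk z) := by
  rw [ringKrullDim_stalk_eq_coheight, ringKrullDim_stalk_eq_coheight]
  refine WithBot.coe_le_coe.mpr ?_
  have hg : GeneralizingMap φ := Flat.generalizingMap φ
  refine Order.coheight_le fun p hp => ?_
  have key : ∀ (p : LTSeries Z) (z : Z'), p.head = φ z → ∃ q : LTSeries Z', q.head = z ∧ q.length = p.length := by
    intro p
    induction p using RelSeries.inductionOn with
    | singleton y => exact fun z hz => ⟨RelSeries.singleton _ z, rfl, rfl⟩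
    | cons p y hy ih =>
      intro z hz
      have h1 : y = φ z := by simpa using hz
      subst h1
      obtain ⟨z1, hz1, h2⟩ := hg ((Scheme.le_iff_specializes).1 hy.le)
      obtain ⟨q, hq, hl⟩ := ih z1 h2.symm
      have hlt : z < q.head := by
        rw [hq]
        refine lt_of_le_not_ge ((Scheme.le_iff_specializes).2 hz1) fun h => ?_
        refine not_le_of_gt hy ((Scheme.le_iff_specializes).2 ?_)
        rw [← h2]
        exact ((Scheme.le_iff_specializes).1 h).map φ.continuous
      exact ⟨q.cons z hlt, by simp, by simp [hl]⟩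
  obtain ⟨q, hq, hl⟩ := key p z hp
  rw [← hl]
  exact Order.length_le_coheight hq.ge

/-- Codimension of a closed subset of dimension `≤ d` of a scheme smooth of relative dimension `N` over a
field. -/
theorem le_ringKrullDim_stalk {k : Type u} [Field k] (N d : ℕ) {W : Scheme.{u}}
    (g : W ⟶ Spec (CommRingCat.of k)) [hg : SmoothOfRelativeDimension N g] (T : Set W) (hT : IsClosed T)
    (hd : topologicalKrullDim T ≤ d) (z : W) (hz : z ∈ T) :
    ((N - d : ℕ) : WithBot ℕ∞) ≤ ringKrullDim (W.presheaf.stalk z) := by
  let _ : W.Over (Spec (CommRingCat.of k)) := ⟨g⟩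
  have hsm : Smooth g := SmoothOfRelativeDimension.smooth N g
  have hft : LocallyOfFiniteType (W ↘ Spec (CommRingCat.of k)) :=
    inferInstanceAs (LocallyOfFiniteType g)
  have h1 := VarietyB.DimSch.localDim_eq k z
  rw [UnramA.SmoothFibreDim.localDim_eq N g z] at h1
  obtain ⟨U, hU, hzU, -⟩ := exists_isAffineOpen_mem_and_subset (X := W) (U := ⊤) (x := z) trivial
  have h2 := VarietyB.DimSch.dim_quotient_eq_trd k hU z hzU
  have h3 : ringKrullDim (Γ(W, U) ⧸ (hU.primeIdealOf ⟨z, hzU⟩).asIdeal) ≤ d := by
    refine le_trans ?_ hd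
    rw [← PrimeSpectrum.topologicalKrullDim_eq_ringKrullDim]
    let π := Ideal.Quotient.mk (hU.primeIdealOf ⟨z, hzU⟩).asIdeal
    have hπ : Function.Surjective π := Ideal.Quotient.mk_surjective
    let m : PrimeSpectrum (Γ(W, U) ⧸ (hU.primeIdealOf ⟨z, hzU⟩).asIdeal) → W :=
      fun y => hU.fromSpec (PrimeSpectrum.comap π y)
    have hm : Topology.IsEmbedding m :=
      hU.fromSpec.isOpenEmbedding.isEmbedding.comp
        (PrimeSpectrum.isClosedEmbedding_comap_of_surjective _ π hπ).isEmbedding
    have hmT : ∀ y, m y ∈ T := by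
      intro y
      have h4 : hU.primeIdealOf ⟨z, hzU⟩ ⤳ PrimeSpectrum.comap π y := by
        rw [← PrimeSpectrum.le_iff_specializes]
        intro a ha
        change π a ∈ y.asIdeal
        rw [Ideal.Quotient.eq_zero_iff_mem.2 ha]
        exact zero_mem _
      have h5 := h4.map hU.fromSpec.continuous
      rw [hU.fromSpec_primeIdealOf ⟨z, hzU⟩] at h5
      exact h5.mem_closed hT hz
    have hm2 : Topology.IsEmbedding (fun y => (⟨m y, hmT y⟩ : T)) :=
      (Topology.IsEmbedding.subtypeVal.of_comp_iff).1 hm
    exact hm2.isInducing.topologicalKrullDim_le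
  rw [h2] at h3
  have h4 : VarietyB.DimSch.trd k W z ≤ d := by exact_mod_cast h3
  generalize ringKrullDim (W.presheaf.stalk z) = e at h1
  generalize VarietyB.DimSch.trd k W z = a at h1 h4
  induction e with
  | bot => simp at h1
  | coe e =>
    induction e with
    | top => exact le_top
    | coe e =>
      have h5 : N = e + a := by exact_mod_cast h1
      have h6 : N - d ≤ e := by omega
      have h7 : ((N - d : ℕ) : ℕ∞) ≤ (e : ℕ∞) := by exact_mod_cast h6
      exact WithBot.coe_le_coe.2 h7

/-- From the dimension of the fibres of the complement to the codimension. -/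
theorem codimGe_of_dim {X U S : Scheme.{u}} (N d : ℕ) (f : X ⟶ S) [SmoothOfRelativeDimension N f] (j : U ⟶ X)
    (hj : IsOpen (Set.range j))
    (h : ∀ s : S, topologicalKrullDim ↥{x : X | f x = s ∧ x ∉ Set.range j} ≤ d) :
    CodimGe (N - d) f j := by
  intro k _ t z hz
  obtain ⟨⟨s, φ⟩, ht⟩ := (Scheme.SpecToEquivOfField k S).symm.surjective t
  have ht : Spec.map φ ≫ S.fromSpecResidueField s = t := ht
  let W := pullback f (S.fromSpecResidueField s)
  let ψ : pullback f t ⟶ W :=
    pullback.lift (pullback.fst _ _) (pullback.snd _ _ ≫ Spec.map φ)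
      (by rw [pullback.condition, Category.assoc, ← ht])
  have hψ1 : ψ ≫ pullback.fst f (S.fromSpecResidueField s) = pullback.fst _ _ := pullback.lift_fst _ _ _
  have hψ2 : ψ ≫ pullback.snd f (S.fromSpecResidueField s) = pullback.snd _ _ ≫ Spec.map φ :=
    pullback.lift_snd _ _ _
  have hp : IsPullback ψ (pullback.snd f t)
      (pullback.snd f (S.fromSpecResidueField s)) (Spec.map φ) := by
    refine IsPullback.of_right ?_ hψ2 (IsPullback.of_hasPullback f (S.fromSpecResidueField s))
    rw [hψ1, ht]
    exact IsPullback.of_hasPullback f t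
  have h0 : Flat (Spec.map φ) := by
    have : φ.hom.Flat := by
      algebraize [φ.hom]
      exact Module.Flat.of_free
    rw [Flat.SpecMap_iff]
    exact this
  have hfl : Flat ψ := MorphismProperty.of_isPullback (P := @Flat) hp.flip h0
  refine le_trans ?_ (le_ringKrullDim_of_flat ψ z)
  let T : Set W := {w | pullback.fst f (S.fromSpecResidueField s) w ∉ Set.range j}
  have hst : MorphismProperty.IsStableUnderBaseChange (@SmoothOfRelativeDimension N) :=
    smoothOfRelativeDimension_isStableUnderBaseChange N
  have hsm : SmoothOfRelativeDimension N (pullback.snd f (S.fromSpecResidueField s)) :=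
    MorphismProperty.pullback_snd (P := @SmoothOfRelativeDimension N) f _ inferInstance
  have hfs : ∀ w : W, f (pullback.fst f (S.fromSpecResidueField s) w) = s := by
    intro w
    rw [← Scheme.Hom.comp_apply, pullback.condition, Scheme.Hom.comp_apply,
      Scheme.fromSpecResidueField_apply]
  refine le_ringKrullDim_stalk N d (pullback.snd f (S.fromSpecResidueField s)) (hg := hsm) T ?_ ?_ (ψ z) ?_
  · exact (hj.preimage (pullback.fst f (S.fromSpecResidueField s)).continuous).isClosed_compl
  · refine le_trans ?_ (h s)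
    have hemb : Topology.IsEmbedding (pullback.fst f (S.fromSpecResidueField s)) :=
      (pullback.fst f (S.fromSpecResidueField s)).isEmbedding
    have hm : Topology.IsEmbedding (fun w : T => (⟨pullback.fst f (S.fromSpecResidueField s) w.1,
        hfs w.1, w.2⟩ : ↥{x : X | f x = s ∧ x ∉ Set.range j})) :=
      (Topology.IsEmbedding.subtypeVal.of_comp_iff).1 (hemb.comp Topology.IsEmbedding.subtypeVal)
    exact hm.isInducing.topologicalKrullDim_le
  · change pullback.fst f (S.fromSpecResidueField s) (ψ z) ∉ Set.range j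
    rw [← Scheme.Hom.comp_apply, hψ1]
    exact hz

/-- Base change. -/
theorem CodimGe.of_isPullback {c : ℕ} {P X Y Z U U' : Scheme.{u}} {fst : P ⟶ X}
    {snd : P ⟶ Y} {f : X ⟶ Z} {g : Y ⟶ Z} (hp : IsPullback fst snd f g) {j : U ⟶ X}
    {j' : U' ⟶ P} (hr : ∀ v : P, fst v ∈ Set.range j → v ∈ Set.range j') (h : CodimGe c f j) :
    CodimGe c snd j' := by
  intro k _ t z hz
  have hp2 : IsPullback (pullback.fst snd t ≫ fst) (pullback.snd snd t) f (t ≫ g) :=
    (IsPullback.of_hasPullback snd t).paste_horiz hp
  have e := h k (t ≫ g) (hp2.isoPullback.hom z) ?_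
  · refine e.trans (le_ringKrullDim_of_flat hp2.isoPullback.hom z)
  · intro hc
    rw [← Scheme.Hom.comp_apply, hp2.isoPullback_hom_fst, Scheme.Hom.comp_apply] at hc
    exact hz (hr _ hc)

/-- Every point of a scheme is a specialisation of a point whose local ring has dimension zero. -/
theorem exists_specializes (Z : Scheme.{u}) (z : Z) :
    ∃ y : Z, y ⤳ z ∧ ringKrullDim (Z.presheaf.stalk y) = 0 := by
  obtain ⟨y, hy⟩ := QuasiSober.sober (isIrreducible_irreducibleComponent (x := z))
    isClosed_irreducibleComponent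
  have h1 : y ⤳ z := by
    rw [specializes_iff_mem_closure, hy.def]
    exact mem_irreducibleComponent
  refine ⟨y, h1, ?_⟩
  rw [ringKrullDim_stalk_eq_coheight]
  have : Order.coheight y = 0 := by
    rw [Order.coheight_eq_zero]
    intro w hw
    have hw' : w ⤳ y := Scheme.le_iff_specializes.1 hw
    have h2 : closure {w} = irreducibleComponent z :=
      eq_irreducibleComponent (isPreirreducible_singleton.closure) (by
        have : closure ({y} : Set Z) ⊆ closure {w} := hw'.closure_subset
        rwa [hy.def] at this)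
    have h3 : y ∈ closure {w} := by
      rw [h2, ← hy.def]
      exact subset_closure rfl
    have h4 : w ∈ closure {y} := by
      rw [hy.def, ← h2]
      exact subset_closure rfl
    exact Scheme.le_iff_specializes.2 (specializes_iff_mem_closure.2 h4)
  rw [this]
  rfl

/-- The open is dense in every fibre. -/
theorem CodimGe.mem_closure {c : ℕ} (hc : 1 ≤ c) {X U S : Scheme.{u}} {f : X ⟶ S} {j : U ⟶ X}
    (h : CodimGe c f j) (x : X) :
    x ∈ closure (Set.range j ∩ {y : X | f.base y = f.base x}) := by
  obtain ⟨y, hy, hy0⟩ := exists_specializes (f.fiber (f x)) (f.asFiber x)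
  have h1 : (f.fiberι (f x)) y ∈ Set.range j := by
    by_contra hcc
    have := h _ (S.fromSpecResidueField (f x)) y hcc
    change _ ≤ ringKrullDim ((f.fiber (f x)).presheaf.stalk y) at this
    rw [hy0] at this
    have h2 : c ≤ 0 := by exact_mod_cast this
    omega
  have h2 : (f.fiberι (f x)) y ⤳ x := by
    have := hy.map (f.fiberι (f x)).continuous
    rwa [f.fiberι_asFiber] at this
  refine closure_mono (s := {(f.fiberι (f x)) y}) ?_ (specializes_iff_mem_closure.1 h2)
  rintro _ rfl
  refine ⟨h1, ?_⟩
  have := f.range_fiberι (f x)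
  have h3 : (f.fiberι (f x)) y ∈ Set.range (f.fiberι (f x)) := ⟨y, rfl⟩
  rw [this] at h3
  exact h3

end Groth.Agent.Sga4h.H924.Codim
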