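import Groth.Agent.Sga4B.Pure
import Groth.Agent.Sga4B.FinAdd682
import Groth.Agent.Sga4h.LerayAcyc

/-!
# From `ℤ/m` to finite locally constant sheaves

If `H^q_Y(X, ℤ/m) = 0` for all `m ∣ n`, then `H^q_Y(X, F) = 0` for every finite locally constant `F` killed
by `n`.
-/

set_option autoImplicit false
universe u
open CategoryTheory CategoryTheory.Limits AlgebraicGeometry Opposite

namespace Groth.Agent.Sga4h.H924.FlcCase

open Groth.Agent.Sga4B.LocCohLocal Groth.Agent.Sga4B.Pure

theorem isZero_locCoh_const {X U : Scheme.{u}} (j : U ⟶ X) [IsOpenImmersion j] (q n : ℕ)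
    (h : ∀ m : ℕ, m ∣ n → m ≠ 0 → IsZero ((EtDual.locCoh j q).obj (EtCoh.const X (ZMod m))))
    (M : Type) [AddCommGroup M] [Finite M] (hM : ∀ x : M, n • x = 0) :
    IsZero ((EtDual.locCoh j q).obj (EtCoh.const X M)) := by
  have hadd : (constantSheaf X.smallEtaleTopology AddCommGrpCat.{u + 1}).Additive :=
    Functor.additive_of_preserves_binary_products _
  have hadd2 : (EtDual.locCoh j q).Additive :=
    Groth.Agent.Sga4h.LerayAcyc.rightDerived_additive (EtDual.secSupp j) q
  have hadd3 : (constantSheaf X.smallEtaleTopology AddCommGrpCat.{u + 1} ⋙ EtDual.locCoh j q).Additive :=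
    inferInstance
  exact Groth.Agent.Sga4B.FinAdd.isZero_obj_of_finite
    (constantSheaf X.smallEtaleTopology AddCommGrpCat.{u + 1} ⋙ EtDual.locCoh j q) n h M hM

theorem isZero_locCoh_flc {X U : Scheme.{u}} (j : U ⟶ X) [IsOpenImmersion j] (q n : ℕ)
    (h : ∀ m : ℕ, m ∣ n → m ≠ 0 → IsZero ((EtDual.locCoh j q).obj (EtCoh.const X (ZMod m))))
    (F : EtCoh.Ab X) (hF : EtCoh.IsFiniteLocallyConstant F) (hn : EtCoh.KilledBy n F) :
    IsZero ((EtDual.locCoh j q).obj F) := by
  refine isZero_of_pull _ fun x => ?_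
  obtain ⟨ι, W, hW, hF'⟩ := (EtpbcA.OverSite2.isFLC_iff_pull _).1 hF
  obtain ⟨a, w, hw⟩ := hW x
  obtain ⟨M, _, _, ⟨e⟩⟩ := hF' a
  let g : (W a).left ⟶ X := EtpbcA.OverSite.str (W a)
  have hg : Etale g := inferInstance
  have hne : Nonempty (W a).left := ⟨w⟩
  have hM : ∀ m : M, n • m = 0 := nsmul_eq_zero_of_killedBy M n
    (killedBy_of_iso e (killedBy_pull_etale g hn))
  have h1 := isZero_locCoh_const j q n h M hM
  have h2 : IsZero ((EtCoh.pull g).obj ((EtDual.locCoh j q).obj (EtCoh.const X M))) :=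
    (EtCoh.pull g).map_isZero h1
  have hr : Set.range (pullback.snd j g) = g ⁻¹' Set.range j := IsOpenImmersion.range_pullbackSnd j g
  have h3 : IsZero ((EtDual.locCoh (pullback.snd j g) q).obj ((EtCoh.pull g).obj (EtCoh.const X M))) :=
    h2.of_iso ((locCohPullIsoOfRange j g _ hr q).symm.app (EtCoh.const X M))
  refine ⟨(W a).left, g, inferInstance, inferInstance, w, hw, ?_⟩
  refine IsZero.of_iso ?_ ((locCohPullIsoOfRange j g _ hr q).app F)
  exact h3.of_iso ((EtDual.locCoh (pullback.snd j g) q).mapIso (e ≪≫ (pullConst g M).symm))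

end Groth.Agent.Sga4h.H924.FlcCase
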