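import Groth.Agent.Sga4h.ColimAcyc
import Groth.Agent.Sga4B.SuppFun
import Groth.Agent.Sga4h.LocCohLES
import Groth.Agent.EtpbcA.TorsionColim
import Groth.Agent.EtpbcB.NKillEt
import Groth.Agent.Sga4h.H924.FlcCase

/-!
# Local cohomology sheaves and filtered colimits; sheaves coming from the spectrum of a field
-/

set_option autoImplicit false
universe u
open CategoryTheory CategoryTheory.Limits AlgebraicGeometry Opposite

namespace Groth.Agent.Sga4h.H924.ColimCase

open Groth.Agent.EtpbcA Groth.Agent.Sga4B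

/-- Vanishing of local cohomology sheaves in degrees `< m`, `m ≥ 2`, passes to filtered colimits. -/
theorem isZero_locCoh_colimit {X U : Scheme.{u}} (j : U ⟶ X) [IsOpenImmersion j] [QuasiCompact j]
    {I : Type (u + 1)} [SmallCategory I] [IsFiltered I] {D : I ⥤ EtCoh.Ab X} {c : Cocone D}
    (hc : IsColimit c) (m : ℕ) (hm : 2 ≤ m)
    (h : ∀ i q, q < m → IsZero ((EtDual.locCoh j q).obj (D.obj i))) (q : ℕ) (hq : q < m) :
    IsZero ((EtDual.locCoh j q).obj c.pt) := by
  have hu : IsIso ((EtCoh.pullPushAdj j).unit.app c.pt) :=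
    Groth.Agent.Sga4h.ColimAcyc.isIso_unit hc j fun i =>
      SuppFun.isIso_unit j (D.obj i) (h i 0 (by omega)) (h i 1 (by omega))
  match q, hq with
  | 0, _ => exact SuppFun.isZero_locCoh_zero j c.pt inferInstance
  | 1, _ => exact SuppFun.isZero_locCoh_one j c.pt hu
  | q + 2, hq =>
    have h1 := Groth.Agent.Sga4h.ColimAcyc.isZero_Rpush hc j (q + 1)
      (fun i => SuppFun.isZero_Rpush j (q + 1) (by omega) (D.obj i) (h i (q + 2) hq))
    exact h1.of_iso (Groth.Agent.Sga4h.LocCohLES.locCohSuccIso j c.pt q).symm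

/-- A constructible sheaf on the spectrum of a field is finite locally constant. -/
theorem isFLC_of_isConstructible {K : Type u} [Field K] (F : EtCoh.Ab (Spec (CommRingCat.of K)))
    (hF : EtPBC.IsConstructible F) : EtCoh.IsFiniteLocallyConstant F := by
  obtain ⟨n, T, g, hg, -, -, hU, hT⟩ := hF ⊤ (isAffineOpen_top _)
  let x : Spec (CommRingCat.of K) := (⟨⊥, Ideal.isPrime_bot⟩ : PrimeSpectrum K)
  have hx : x ∈ ⋃ i, Set.range (g i) := by
    rw [hU]
    exact Set.mem_univ x
  obtain ⟨i, hi⟩ := Set.mem_iUnion.1 hx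
  have hsub : ∀ y : Spec (CommRingCat.of K), y = x := fun y =>
    Subsingleton.elim (α := PrimeSpectrum K) _ _
  have hr : Set.range (g i) = Set.univ := by
    refine Set.eq_univ_of_forall fun y => ?_
    rw [hsub y]
    exact hi
  have := hg i
  have h1 : IsClosedImmersion (g i) := .of_isPreimmersion _ (by rw [hr]; exact isClosed_univ)
  have h2 : Surjective (g i) := ⟨Set.range_eq_univ.1 hr⟩
  have h3 : IsIso (g i) := isIso_of_isClosedImmersion_of_surjective (g i)
  have h4 := PullFLC.isFLC_pull (inv (g i)) _ (hT i)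
  refine PullFLC.isFLC_of_iso ?_ h4
  exact (PullFLC.pullComp (inv (g i)) (g i)).app F ≪≫
    (PullFLC.pullCongr (IsIso.inv_hom_id (g i))).app F ≪≫
    (PullFLC.pullId _).app F

/-- Local cohomology sheaves of sheaves coming from the spectrum of a field. -/
theorem isZero_locCoh_field {k : Type u} [Field k] {X U : Scheme.{u}} (f : X ⟶ Spec (CommRingCat.of k))
    (j : U ⟶ X) [IsOpenImmersion j] [QuasiCompact j] (m n : ℕ) (hn : 0 < n) (hm : 2 ≤ m)
    (h : ∀ m' : ℕ, m' ∣ n → m' ≠ 0 → ∀ q, q < m →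
      IsZero ((EtDual.locCoh j q).obj (EtCoh.const X (ZMod m'))))
    (G : EtCoh.Ab (Spec (CommRingCat.of k))) (hG : EtCoh.KilledBy n G) (q : ℕ) (hq : q < m) :
    IsZero ((EtDual.locCoh j q).obj ((EtCoh.pull f).obj G)) := by
  obtain ⟨I, _, _, D, c, hc, hD, ⟨e⟩⟩ := TorsionColim.exists_filtered_of_killedBy hn G hG
  have hp : PreservesColimitsOfSize.{u + 1, u + 1} (EtCoh.pull f) :=
    (EtCoh.pullPushAdj f).leftAdjoint_preservesColimits
  have hc' : IsColimit ((EtCoh.pull f).mapCocone c) := isColimitOfPreserves _ hc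
  have h1 := isZero_locCoh_colimit j hc' m hm (fun i q hq =>
    FlcCase.isZero_locCoh_flc j q n (fun m' h1 h2 => h m' h1 h2 q hq) _
      (PullFLC.isFLC_pull f _ (isFLC_of_isConstructible _ (hD i).1))
      (Groth.Agent.EtpbcB.NKillEt.killedBy_pull f (hD i).2)) q hq
  exact h1.of_iso ((EtDual.locCoh j q).mapIso ((EtCoh.pull f).mapIso e.symm))

end Groth.Agent.Sga4h.H924.ColimCase
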