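import Groth.Agent.Sga4h.LerayAcyc
import Groth.Agent.Sga4h.Edge
import Groth.Agent.Sga4B.SuppFun
import Groth.Agent.Sga4h.LocCohLES
import Groth.Agent.Etrest.RDer1

/-!
# Vanishing of local cohomology sheaves: direct images, smaller supports, dimension shifting

* `isZero_locCoh_push`: `H^p_Y(r_* E) = 0` if `H^q_{Y'}(E) = 0` for `q ≤ p`, and `R^q r_* E = 0` for `q > 0`;
* `isZero_locCoh_of_le`: enlarging the open set (shrinking the support);
* `isZero_locCoh_of_shortExact`: dimension shifting.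
-/

set_option autoImplicit false
universe u
open CategoryTheory CategoryTheory.Limits AlgebraicGeometry Opposite

namespace Groth.Agent.Sga4h.H924.LocPush

open Groth.Agent.Sga4B.SuppFun

/-- `H^p_Y(r_* E) = 0` if `H^q_{Y'}(E) = 0` for all `q ≤ p` and `E` is acyclic for `r_*`. -/
theorem isZero_locCoh_push {X X' U U' : Scheme.{u}} {k : U' ⟶ U} {j' : U' ⟶ X'} {j : U ⟶ X} {r : X' ⟶ X}
    [Etale j] [Etale j'] (sq : IsPullback k j' j r) (E : EtCoh.Ab X')
    (hE : ∀ q, 0 < q → IsZero ((EtCoh.Rpush r q).obj E)) (p : ℕ)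
    (h : ∀ q, q ≤ p → IsZero ((EtDual.locCoh j' q).obj E)) :
    IsZero ((EtDual.locCoh j p).obj ((EtCoh.push r).obj E)) := by
  have h1 : IsZero (((EtDual.secSupp j' ⋙ EtCoh.push r).rightDerived p).obj E) :=
    Groth.Agent.Sga4h.Edge.isZero_rightDerived_comp (EtDual.secSupp j') (EtCoh.push r)
      (fun I hI => Groth.Agent.Sga4h.SecSupp.injective_secSupp j' I) E (p + 1)
      (fun q hq => h q (by omega)) p (by omega)
  have h2 : IsZero (((EtCoh.push r ⋙ EtDual.secSupp j).rightDerived p).obj E) :=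
    h1.of_iso ((Groth.Agent.Sga4h.LerayAcyc.rightDerivedCongr (pushSecSuppIso sq) p).app E)
  exact h2.of_iso (Groth.Agent.Sga4h.LerayAcyc.rightDerivedIso (EtCoh.push r) (EtDual.secSupp j)
    (fun I _ => Groth.Agent.Sga4h.PullInj.injective_push r I) E hE p).symm

/-- Vanishing of the local cohomology sheaves passes to smaller supports. -/
theorem isZero_locCoh_of_le {X U₁ U : Scheme.{u}} (j₁ : U₁ ⟶ X) (j : U ⟶ X) [Etale j₁] [Etale j]
    (a : U₁ ⟶ U) (w : a ≫ j = j₁) (F : EtCoh.Ab X) (p : ℕ)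
    (h : ∀ q, q ≤ p → IsZero ((EtDual.locCoh j₁ q).obj F)) : IsZero ((EtDual.locCoh j p).obj F) := by
  have h1 : IsZero (((EtDual.secSupp j₁ ⋙ EtDual.secSupp j).rightDerived p).obj F) :=
    Groth.Agent.Sga4h.Edge.isZero_rightDerived_comp (EtDual.secSupp j₁) (EtDual.secSupp j)
      (fun I hI => Groth.Agent.Sga4h.SecSupp.injective_secSupp j₁ I) F (p + 1)
      (fun q hq => h q (by omega)) p (by omega)
  exact h1.of_iso ((Groth.Agent.Sga4h.LerayAcyc.rightDerivedCongr (secSuppCompIso j₁ j a w) p).app F).symm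

/-- Dimension shifting, degree zero. -/
theorem isZero_locCoh_zero_of_mono {X U : Scheme.{u}} (j : U ⟶ X) [Etale j] {F G : EtCoh.Ab X}
    (i : F ⟶ G) [Mono i] (h : IsZero ((EtDual.locCoh j 0).obj G)) :
    IsZero ((EtDual.locCoh j 0).obj F) := by
  have h1 : IsZero ((EtDual.secSupp j).obj G) :=
    h.of_iso ((Groth.Agent.Sga4h.LocCohLES.locCohZeroIso j).app G).symm
  have hm : Mono ((EtDual.secSupp j).map i) := inferInstance
  have h2 : IsZero ((EtDual.secSupp j).obj F) := h1.of_mono ((EtDual.secSupp j).map i)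
  exact h2.of_iso ((Groth.Agent.Sga4h.LocCohLES.locCohZeroIso j).app F)

/-- Dimension shifting. -/
theorem isZero_locCoh_succ_of_shortExact {X U : Scheme.{u}} (j : U ⟶ X) [Etale j]
    {S : ShortComplex (EtCoh.Ab X)} (hS : S.ShortExact) (n : ℕ)
    (h2 : IsZero ((EtDual.locCoh j (n + 1)).obj S.X₂)) (h3 : IsZero ((EtDual.locCoh j n).obj S.X₃)) :
    IsZero ((EtDual.locCoh j (n + 1)).obj S.X₁) :=
  Groth.Agent.Etrest.RDer1.isZero_X₁ (EtDual.secSupp j) hS n h3 h2

end Groth.Agent.Sga4h.H924.LocPush
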