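import Groth.Agent.Proet.WEtaleScheme
import Mathlib.RingTheory.LocalRing.ResidueField.Ideal
import Mathlib.RingTheory.Localization.AtPrime.Basic
import Mathlib.AlgebraicGeometry.Morphisms.Affine

/-!
# The product of the residue fields of a ring

`rho R : Spec (∏ κ(p)) ⟶ Spec R` is surjective, and every point of `Spec (∏ κ(p))` is in the image of a
weakly etale morphism from the spectrum of a field.
-/

set_option autoImplicit false
universe u
open CategoryTheory CategoryTheory.Limits AlgebraicGeometry

namespace Groth.Agent.Sga4h.H924.ProdBase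

/-- The localizations of a product of fields are fields. -/
theorem isField_localization {ι : Type u} (K : ι → Type u) [∀ i, Field (K i)] (p : Ideal (∀ i, K i))
    [p.IsPrime] : IsField (Localization.AtPrime p) := by
  rw [IsLocalRing.isField_iff_maximalIdeal_eq, eq_bot_iff]
  intro x hx
  obtain ⟨a, s, rfl⟩ := IsLocalization.exists_mk'_eq p.primeCompl x
  have ha : a ∈ p := (IsLocalization.AtPrime.mk'_mem_maximal_iff _ p a s).1 hx
  have h1 : (1 - a * a⁻¹) * a = 0 := by
    funext i
    simp only [Pi.mul_apply, Pi.sub_apply, Pi.one_apply, Pi.inv_apply, Pi.zero_apply]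
    by_cases h : a i = 0
    · rw [h, mul_zero]
    · rw [mul_inv_cancel₀ h, sub_self, zero_mul]
  have h2 : (1 - a * a⁻¹) ∈ p.primeCompl := by
    intro h
    apply (‹p.IsPrime›).ne_top
    rw [Ideal.eq_top_iff_one]
    have := p.add_mem h (p.mul_mem_right a⁻¹ ha)
    rwa [sub_add_cancel] at this
  have h3 : algebraMap (∀ i, K i) (Localization.AtPrime p) a = 0 := by
    have h4 := IsLocalization.map_units (Localization.AtPrime p) ⟨_, h2⟩
    rw [← h4.mul_right_eq_zero, ← map_mul, h1, map_zero]
  rw [Ideal.mem_bot, IsLocalization.mk'_eq_zero_iff]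
  exact ⟨⟨_, h2⟩, h1⟩

/-- Every point of the spectrum of a product of fields is the image of a weakly etale morphism from the spectrum
of a field. -/
theorem exists_weaklyEtale {ι : Type u} (K : ι → Type u) [∀ i, Field (K i)]
    (x : Spec (CommRingCat.of (∀ i, K i))) :
    ∃ (k : Type u) (_ : Field k) (t : Spec (CommRingCat.of k) ⟶ Spec (CommRingCat.of (∀ i, K i)))
      (_ : WeaklyEtale t) (z : Spec (CommRingCat.of k)), t z = x := by
  let p := x.asIdeal
  have hp : p.IsPrime := x.isPrime
  let _ : Field (Localization.AtPrime p) := (isField_localization K p).toField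
  have h1 : Algebra.WeaklyEtale (∀ i, K i) (Localization.AtPrime p) :=
    Groth.Agent.Proet.WEtale2.weaklyEtale_of_isLocalization (Localization.AtPrime p) p.primeCompl
  refine ⟨Localization.AtPrime p, inferInstance,
    Spec.map (CommRingCat.ofHom (algebraMap (∀ i, K i) (Localization.AtPrime p))), ?_, ?_⟩
  · exact (Groth.Agent.Proet.WEtaleScheme.weaklyEtale_Spec_iff _ _).2 h1
  · refine ⟨IsLocalRing.closedPoint (Localization.AtPrime p), ?_⟩
    apply PrimeSpectrum.ext
    exact IsLocalization.AtPrime.under_maximalIdeal (Localization.AtPrime p) p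

variable (R : Type u) [CommRing R]

/-- The product of the residue fields. -/
abbrev PF : Type u := ∀ p : PrimeSpectrum R, p.asIdeal.ResidueField

/-- The map to the product of the residue fields. -/
noncomputable def toPF : R →+* PF R := RingHom.pi fun p => algebraMap R p.asIdeal.ResidueField

/-- The morphism from the spectrum of the product of the residue fields. -/
noncomputable def rho : Spec (CommRingCat.of (PF R)) ⟶ Spec (CommRingCat.of R) :=
  Spec.map (CommRingCat.ofHom (toPF R))

instance : Surjective (rho R) := by
  constructor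
  intro p
  let π : PF R →+* p.asIdeal.ResidueField := Pi.evalRingHom _ p
  refine ⟨PrimeSpectrum.comap π ⊥, ?_⟩
  apply PrimeSpectrum.ext
  change Ideal.comap (toPF R) (Ideal.comap π ⊥) = p.asIdeal
  rw [Ideal.comap_comap]
  have : π.comp (toPF R) = algebraMap R p.asIdeal.ResidueField := rfl
  rw [this]
  exact Ideal.ker_algebraMap_residueField p.asIdeal

end Groth.Agent.Sga4h.H924.ProdBase
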