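import Groth.Agent.Sga4h.NcLimEt

/-!
# Support of higher direct images along weakly étale base change
-/

set_option autoImplicit false
universe u
open CategoryTheory CategoryTheory.Limits AlgebraicGeometry Opposite

namespace Groth.Agent.Sga4h.H924.WEPull

open Groth.Agent.EtpbcA.Artin Groth.Agent.EtpbcB IsLocalRing Groth.Agent.Sga4h.NcLimEt

/-- If `R^q f'_* g'^* F = 0` for a weakly étale base change `g`, then the support of `R^q f_* F` does not meet
the image of `g`. -/
theorem not_mem_supp_Rpush_of_pull {X Y X' Y' : Scheme.{u}} (f : X ⟶ Y) (g : Y' ⟶ Y) [WeaklyEtale g]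
    (f' : X' ⟶ Y') (g' : X' ⟶ X) (h : IsPullback g' f' f g) [QuasiCompact f] [QuasiSeparated f]
    (F : EtCoh.Ab X) (q : ℕ) (hF : IsZero ((EtCoh.Rpush f' q).obj ((EtCoh.pull g').obj F))) (y' : Y') :
    g y' ∉ EtPBC.supp ((EtCoh.Rpush f q).obj F) := by
  have hq1 : QuasiCompact f' := MorphismProperty.of_isPullback h inferInstance
  have hq2 : QuasiSeparated f' := MorphismProperty.of_isPullback h inferInstance
  obtain ⟨R, _, _, _, _, hR⟩ := S0537.result (Y'.presheaf.stalk y')
  let _ : Algebra (Y.presheaf.stalk (g y')) R :=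
      ((algebraMap (Y'.presheaf.stalk y') R).comp (g.stalkMap y').hom).toAlgebra
  obtain ⟨hloc, hR'⟩ := goodTransfer_of_weaklyEtale g y' R
  rw [not_mem_supp_Rpush_iff f F q (g y') R, ← PBCVan.van_comp h _ _ (specOf_comp g y' R)]
  exact (not_mem_supp_Rpush_iff f' _ q y' R).1 (supp_eq_empty_of_isZero hF _)

end Groth.Agent.Sga4h.H924.WEPull
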