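import Groth.Agent.Sga4h.H924.LocPush
import Groth.Agent.Sga4h.H924.ColimCase
import Groth.Agent.Sga4h.H924.WEPull
import Groth.Agent.Sga4h.H924.Codim
import Groth.Agent.Sga4h.H924.ProdBase
import Groth.Agent.EtpbcB.NKillEt
import Groth.Agent.EtpbcB.SurjFaithful
import Groth.Agent.EtpbcA.PullFLC
import Groth.Agent.Sga4B.FibDenseSmooth

/-!
# Relative semi-purity over an affine base, conditionally on smooth base change and semi-purity over fields

`f : X ⟶ Spec R` smooth, `j : U ⟶ X` a quasi-compact open immersion whose complement has codimension `≥ c` in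
every fibre, `F` any sheaf on `Spec R` killed by `n` invertible: `H^p_Y(f^* F) = 0` for `p < 2c`.
-/

set_option autoImplicit false
universe u
open CategoryTheory CategoryTheory.Limits AlgebraicGeometry Opposite

namespace Groth.Agent.Sga4h.H924.MainInd

open Groth.Agent.EtpbcA Groth.Agent.EtpbcB Groth.Agent.Sga4B Groth.Agent.Sga4h.H924.Codim

/-- Smooth base change. -/
def SBC : Prop :=
  ∀ {X S Y T : Scheme.{u}} (f : X ⟶ S) (_ : Smooth f) (g : T ⟶ S) (_ : QuasiCompact g)
    (_ : QuasiSeparated g) (h : Y ⟶ X) (e : Y ⟶ T) (hc : IsPullback e h g f)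
    (F : EtCoh.Ab T) (_ : EtPBC.IsTorsionInvertibleOn S F) (q : ℕ),
    Nonempty ((EtCoh.pull f).obj ((EtCoh.Rpush g q).obj F) ≅
      (EtCoh.Rpush h q).obj ((EtCoh.pull e).obj F)) ∧ IsIso (EtCoh.baseChange0 g f h e hc.w F)

/-- Semi-purity over a field. -/
def FieldPure : Prop :=
  ∀ {k : Type u} [Field k] {X U : Scheme.{u}} (f : X ⟶ Spec (CommRingCat.of k)) [Smooth f] (j : U ⟶ X)
    [IsOpenImmersion j] (c : ℕ)
    (_ : ∀ x : X, x ∉ Set.range j → (c : WithBot ℕ∞) ≤ ringKrullDim (X.presheaf.stalk x)) (n : ℕ)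
    (_ : (n : k) ≠ 0) (q : ℕ) (_ : q < 2 * c), IsZero ((EtDual.locCoh j q).obj (EtCoh.const X (ZMod n)))

theorem ne_zero_of_isUnit {P : Scheme.{u}} {k : Type u} [Field k] (t : Spec (CommRingCat.of k) ⟶ P)
    (n : ℕ) (hn : IsUnit (n : Γ(P, ⊤))) : (n : k) ≠ 0 := by
  have h1 := hn.map ((t.appTop) ≫ (Scheme.ΓSpecIso (CommRingCat.of k)).hom).hom
  rw [map_natCast] at h1
  exact h1.ne_zero

/-- The case of a base whose points are dominated by weakly étale spectra of fields. -/
theorem isZero_locCoh_base (hF : FieldPure.{u}) {P X U : Scheme.{u}} (g : X ⟶ P) [Smooth g] (j : U ⟶ X)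
    [IsOpenImmersion j] [QuasiCompact j] (c : ℕ) (hc : CodimGe c g j) (n : ℕ) (hn : IsUnit (n : Γ(P, ⊤)))
    (hP : ∀ x : P, ∃ (k : Type u) (_ : Field k) (t : Spec (CommRingCat.of k) ⟶ P) (_ : WeaklyEtale t)
      (z : Spec (CommRingCat.of k)), t z = x)
    (G : EtCoh.Ab P) (hG : EtCoh.KilledBy n G) (q : ℕ) (hq : q < 2 * c) :
    IsZero ((EtDual.locCoh j q).obj ((EtCoh.pull g).obj G)) := by
  have hu : IsIso (EtDual.unitApp j ((EtCoh.pull g).obj G)) :=
    FibDense.isIso_unit g j (fun x => hc.mem_closure (by omega) x) G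
  match q, hq with
  | 0, _ => exact SuppFun.isZero_locCoh_zero j _ inferInstance
  | 1, _ => exact SuppFun.isZero_locCoh_one j _ hu
  | q + 2, hq =>
    refine IsZero.of_iso ?_ (Groth.Agent.Sga4h.LocCohLES.locCohSuccIso j _ q).symm
    refine Artin.isZero_of_forall _ fun x => ?_
    obtain ⟨k, _, t, ht, z, hz⟩ := hP (g x)
    obtain ⟨x', hx', -⟩ := Scheme.Pullback.exists_preimage_pullback x z hz.symm
    have hwe : WeaklyEtale (pullback.fst g t) := MorphismProperty.pullback_fst g t ht
    rw [← hx']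
    refine WEPull.not_mem_supp_Rpush_of_pull j (pullback.fst g t) (pullback.snd j (pullback.fst g t))
      (pullback.fst j (pullback.fst g t)) (IsPullback.of_hasPullback _ _) _ (q + 1) ?_ x'
    have hk : (n : k) ≠ 0 := ne_zero_of_isUnit t n hn
    have hn0 : 0 < n := by
      rcases Nat.eq_zero_or_pos n with h | h
      · subst h
        exact absurd (Nat.cast_zero) hk
      · exact h
    have h1 := ColimCase.isZero_locCoh_field (pullback.snd g t) (pullback.snd j (pullback.fst g t))
      (2 * c) n hn0 (by omega) (fun m' hm' _ q hq =>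
        hF (pullback.snd g t) (pullback.snd j (pullback.fst g t)) c (fun y hy => by
          refine hc k t y fun hy' => hy ?_
          rw [IsOpenImmersion.range_pullbackSnd]
          exact hy') m' (fun h => hk (by
            obtain ⟨a, rfl⟩ := hm'
            rw [Nat.cast_mul, h, zero_mul])) q hq)
      ((EtCoh.pull t).obj G) (NKillEt.killedBy_pull t hG) (q + 2) hq
    refine (SuppFun.isZero_Rpush (pullback.snd j (pullback.fst g t)) (q + 1) (by omega) _ h1).of_iso ?_
    refine (EtCoh.Rpush _ (q + 1)).mapIso ?_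
    exact (PullFLC.pullComp (pullback.fst j (pullback.fst g t)) j).app _ ≪≫
      (PullFLC.pullComp (pullback.fst j (pullback.fst g t) ≫ j) g).app _ ≪≫
      (PullFLC.pullCongr (show (pullback.fst j (pullback.fst g t) ≫ j) ≫ g =
        (pullback.snd j (pullback.fst g t) ≫ pullback.snd g t) ≫ t by
          rw [pullback.condition, Category.assoc, Category.assoc, pullback.condition])).app _ ≪≫
      ((PullFLC.pullComp (pullback.snd j (pullback.fst g t) ≫ pullback.snd g t) t).app _).symm ≪≫
      ((PullFLC.pullComp (pullback.snd j (pullback.fst g t)) (pullback.snd g t)).app _).symm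

/-- Smooth base change and local cohomology. -/
theorem isZero_locCoh_pull_push (hS : SBC.{u}) {P S X U : Scheme.{u}} (f : X ⟶ S) [Smooth f] (r : P ⟶ S)
    [QuasiCompact r] [QuasiSeparated r] (j : U ⟶ X) [IsOpenImmersion j] (G : EtCoh.Ab P)
    (hG : EtPBC.IsTorsionInvertibleOn S G) (hR : ∀ q, 0 < q → IsZero ((EtCoh.Rpush r q).obj G)) (p : ℕ)
    (h : ∀ q, q ≤ p → IsZero ((EtDual.locCoh (pullback.snd j (pullback.fst f r)) q).obj
      ((EtCoh.pull (pullback.snd f r)).obj G))) :
    IsZero ((EtDual.locCoh j p).obj ((EtCoh.pull f).obj ((EtCoh.push r).obj G))) := by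
  have sq : IsPullback (pullback.snd f r) (pullback.fst f r) r f := (IsPullback.of_hasPullback f r).flip
  have h0 := fun q => hS f inferInstance r inferInstance inferInstance (pullback.fst f r)
    (pullback.snd f r) sq G hG q
  have hi := (h0 0).2
  have h1 := LocPush.isZero_locCoh_push (IsPullback.of_hasPullback j (pullback.fst f r))
    ((EtCoh.pull (pullback.snd f r)).obj G) (fun q hq => by
      obtain ⟨⟨e⟩, -⟩ := h0 q
      exact ((EtCoh.pull f).map_isZero (hR q hq)).of_iso e.symm) p h
  exact h1.of_iso ((EtDual.locCoh j p).mapIso (asIso (EtCoh.baseChange0 r f (pullback.fst f r)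
    (pullback.snd f r) sq.w G)))

/-- Relative semi-purity over an affine base, quasi-compact open, arbitrary sheaf on the base. -/
theorem isZero_locCoh_spec (hS : SBC.{u}) (hF : FieldPure.{u}) {R : Type u} [CommRing R] {X U : Scheme.{u}}
    (f : X ⟶ Spec (CommRingCat.of R)) [Smooth f] (j : U ⟶ X) [IsOpenImmersion j] [QuasiCompact j] (c : ℕ)
    (hc : CodimGe c f j) (n : ℕ) (hn0 : 0 < n) (hn : IsUnit (n : Γ(Spec (CommRingCat.of R), ⊤))) (p : ℕ) :
    p < 2 * c → ∀ (F : EtCoh.Ab (Spec (CommRingCat.of R))), EtCoh.KilledBy n F →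
      IsZero ((EtDual.locCoh j p).obj ((EtCoh.pull f).obj F)) := by
  have key : ∀ (G : EtCoh.Ab (Spec (CommRingCat.of (ProdBase.PF R)))), EtCoh.KilledBy n G →
      (∀ q, 0 < q → IsZero ((EtCoh.Rpush (ProdBase.rho R) q).obj G)) → ∀ p, p < 2 * c →
      IsZero ((EtDual.locCoh j p).obj ((EtCoh.pull f).obj ((EtCoh.push (ProdBase.rho R)).obj G))) := by
    intro G hG hR p hp
    have hq1 : QuasiCompact (ProdBase.rho R) := inferInstance
    refine isZero_locCoh_pull_push hS f (ProdBase.rho R) j G
      (fun V s x => ⟨V, 𝟙 V, n, ⟨x, rfl⟩, hn, hG V _⟩) hR p fun q hq => ?_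
    refine isZero_locCoh_base hF (pullback.snd f (ProdBase.rho R)) _ c ?_ n ?_
      (fun x => ProdBase.exists_weaklyEtale _ x) G hG q (by omega)
    · refine hc.of_isPullback (IsPullback.of_hasPullback f (ProdBase.rho R)) fun v hv => ?_
      rw [IsOpenImmersion.range_pullbackSnd]
      exact hv
    · have := hn.map (ProdBase.rho R).appTop.hom
      rwa [map_natCast] at this
  have emb : ∀ (F : EtCoh.Ab (Spec (CommRingCat.of R))), EtCoh.KilledBy n F →
      ∃ (G : EtCoh.Ab (Spec (CommRingCat.of (ProdBase.PF R)))) (_ : EtCoh.KilledBy n G)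
        (_ : ∀ q, 0 < q → IsZero ((EtCoh.Rpush (ProdBase.rho R) q).obj G))
        (i : F ⟶ (EtCoh.push (ProdBase.rho R)).obj G), Mono i := by
    intro F hF'
    obtain ⟨J, hJ, i, hi⟩ := NKill.exists_mono_tor ((NKillEt.killedBy_iff n _).1
      (NKillEt.killedBy_pull (ProdBase.rho R) hF'))
    refine ⟨NKill.tor n J, (NKillEt.killedBy_iff n _).2 (NKill.killed_tor n J),
      NKillEt.acyclic_push_tor (ProdBase.rho R) J hn0,
      (EtCoh.pullPushAdj (ProdBase.rho R)).unit.app F ≫ (EtCoh.push (ProdBase.rho R)).map i, ?_⟩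
    have h1 := SurjFaithful.mono_unit (ProdBase.rho R) F
    have h2 : Mono ((EtCoh.push (ProdBase.rho R)).map i) := inferInstance
    exact mono_comp _ _
  induction p with
  | zero =>
    intro hp F hF'
    obtain ⟨G, hG, hR, i, hi⟩ := emb F hF'
    exact LocPush.isZero_locCoh_zero_of_mono j ((EtCoh.pull f).map i) (key G hG hR 0 hp)
  | succ p ih =>
    intro hp F hF'
    obtain ⟨G, hG, hR, i, hi⟩ := emb F hF'
    let T : ShortComplex (EtCoh.Ab (Spec (CommRingCat.of R))) := ShortComplex.mk i (cokernel.π i) (by simp)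
    have hT : T.ShortExact := { exact := ShortComplex.exact_cokernel i }
    have hT' : (T.map (EtCoh.pull f)).ShortExact := hT.map_of_exact (EtCoh.pull f)
    refine LocPush.isZero_locCoh_succ_of_shortExact j hT' p (key G hG hR (p + 1) hp) ?_
    exact ih (by omega) _ ((NKillEt.killedBy_iff n _).2 (NKill.killed_of_epi (cokernel.π i)
      ((NKillEt.killedBy_iff n _).1 (NKillEt.killedBy_push _ hG))))

end Groth.Agent.Sga4h.H924.MainInd
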